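import Cfsg.Agent.Lib.Recog.SporBound.Sound
import Cfsg.Agent.Lib.Recog.SporBound.YArmEnd.Tree0
import Cfsg.Agent.Lib.Recog.SporBound.YArmEnd.Tree1

set_option autoImplicit false
set_option maxRecDepth 20000

/-! Generated closure certificate: Y(5,2,3) with the spider relation over the letters but the last of the long arm (owner: lead). -/

namespace CfsgLib.Recog.SporBound.YArmEnd
open CfsgLib.Recog.SporBound

noncomputable def factTree : Q (ℕ) := (.node (.node ft7 ft15 ft22 ft29) (.node ft37 ft45 ft52 ft59) (.node ft67 ft74 ft81 ft88) (.node ft96 ft103 ft110 ft117))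
noncomputable def nodeTree : Q (ℕ) := ct0
noncomputable def stepTree : Q (List ℕ) := (.node (.node st9 st18 st27 st36) (.node st46 st55 st64 st73) (.node st83 st92 st101 st110) (.node st119 st128 st137 st146))
noncomputable def finalTree : Q (List ℕ) := et0

/-- The certificate. -/
noncomputable def cert : Cert where
  n := 1
  nd := 4692
  nf := 13046
  kl := [0, 1, 2, 3, 4, 5, 6, 7, 8, 9, 10]
  facts := factTree
  cn := nodeTree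
  steps := stepTree
  finals := finalTree
  rels := [[0, 0], [1, 1], [2, 2], [3, 3], [4, 4], [5, 5], [6, 6], [7, 7], [8, 8], [9, 9], [10, 10], [0, 1, 0, 1, 0, 1], [0, 2, 0, 2], [0, 3, 0, 3], [0, 4, 0, 4], [0, 5, 0, 5], [0, 6, 0, 6, 0, 6], [0, 7, 0, 7], [0, 8, 0, 8, 0, 8], [0, 9, 0, 9], [0, 10, 0, 10], [1, 2, 1, 2, 1, 2], [1, 3, 1, 3], [1, 4, 1, 4], [1, 5, 1, 5], [1, 6, 1, 6], [1, 7, 1, 7], [1, 8, 1, 8], [1, 9, 1, 9], [1, 10, 1, 10], [2, 3, 2, 3, 2, 3], [2, 4, 2, 4], [2, 5, 2, 5], [2, 6, 2, 6], [2, 7, 2, 7], [2, 8, 2, 8], [2, 9, 2, 9], [2, 10, 2, 10], [3, 4, 3, 4, 3, 4], [3, 5, 3, 5], [3, 6, 3, 6], [3, 7, 3, 7], [3, 8, 3, 8], [3, 9, 3, 9], [3, 10, 3, 10], [4, 5, 4, 5, 4, 5], [4, 6, 4, 6], [4, 7, 4, 7], [4, 8, 4, 8], [4, 9, 4, 9], [4, 10, 4, 10], [5, 6, 5, 6], [5, 7, 5, 7], [5, 8, 5, 8], [5, 9, 5, 9], [5, 10, 5, 10], [6, 7, 6, 7, 6, 7], [6, 8,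 6, 8], [6, 9, 6, 9], [6, 10, 6, 10], [7, 8, 7, 8], [7, 9, 7, 9], [7, 10, 7, 10], [8, 9, 8, 9, 8, 9], [8, 10, 8, 10], [9, 10, 9, 10, 9, 10], [0, 1, 2, 0, 6, 7, 0, 8, 9, 0, 1, 2, 0, 6, 7, 0, 8, 9, 0, 1, 2, 0, 6, 7, 0, 8, 9, 0, 1, 2, 0, 6, 7, 0, 8, 9, 0, 1, 2, 0, 6, 7, 0, 8, 9, 0, 1, 2, 0, 6, 7, 0, 8, 9, 0, 1, 2, 0, 6, 7, 0, 8, 9, 0, 1, 2, 0, 6, 7, 0, 8, 9, 0, 1, 2, 0, 6, 7, 0, 8, 9, 0, 1, 2, 0, 6, 7, 0, 8, 9]]
  subs := [[0], [1], [2], [3], [4], [6], [7], [8], [9], [10]]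

/-- Chains of the traced words. -/
noncomputable def closers : List ℕ := []

end CfsgLib.Recog.SporBound.YArmEnd
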